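import Mathlib

/-! Universe-polymorphic fibre dimensions of modules; rank of a map after base change to residue fields. -/

universe v u

open TensorProduct Module

namespace Groth.Agent.FibreDimUniv

variable {A : Type u} [CommRing A]

theorem rank_baseChange_add {κ : Type u} [Field κ] [Algebra A κ] {M N : Type v} [AddCommGroup M]
    [Module A M] [AddCommGroup N] [Module A N] [Module.Finite A N] (f : M →ₗ[A] N) :
    finrank κ (LinearMap.range (f.baseChange κ)) + finrank κ (κ ⊗[A] (N ⧸ LinearMap.range f)) =
      finrank κ (κ ⊗[A] N) := by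
  have hs : Function.Surjective ((LinearMap.range f).mkQ.baseChange κ) :=
    LinearMap.lTensor_surjective κ (Submodule.mkQ_surjective _)
  have hk : LinearMap.ker ((LinearMap.range f).mkQ.baseChange κ) =
      LinearMap.range (f.baseChange κ) := by
    ext x
    exact (lTensor_exact κ f.exact_map_mkQ_range (Submodule.mkQ_surjective _)) x
  have := ((LinearMap.range f).mkQ.baseChange κ).finrank_range_add_finrank_ker
  rw [LinearMap.range_eq_top.2 hs, finrank_top, hk] at this
  omega

/-- fibre dimension of a module -/
noncomputable def fibreDim (M : Type v) [AddCommGroup M] [Module A M] (x : PrimeSpectrum A) : ℕ :=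
  finrank x.asIdeal.ResidueField (x.asIdeal.ResidueField ⊗[A] M)

theorem exists_isOpen_fibreDim_le (M : Type v) [AddCommGroup M] [Module A M] [Module.Finite A M]
    (x : PrimeSpectrum A) :
    ∃ U : Set (PrimeSpectrum A), IsOpen U ∧ x ∈ U ∧ ∀ y ∈ U, fibreDim M y ≤ fibreDim M x := by
  classical
  let κ := x.asIdeal.ResidueField
  have hspan : Submodule.span κ (Set.range fun m : M => (1 : κ) ⊗ₜ[A] m) = ⊤ := by
    rw [eq_top_iff]
    rintro z -
    induction z using TensorProduct.induction_on with
    | zero => exact zero_mem _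
    | tmul c m =>
      have : c ⊗ₜ[A] m = c • ((1 : κ) ⊗ₜ[A] m) := by rw [smul_tmul', smul_eq_mul, mul_one]
      exact this ▸ Submodule.smul_mem _ _ (Submodule.subset_span ⟨m, rfl⟩)
    | add a b ha hb => exact add_mem ha hb
  obtain ⟨b, hb, hbspan, hbli⟩ := exists_linearIndependent κ (Set.range fun m : M => (1 : κ) ⊗ₜ[A] m)
  choose m hm using fun i : b => hb i.2
  let B : Basis b κ (κ ⊗[A] M) := Basis.mk hbli (by
    rw [Subtype.range_coe, hbspan, hspan])
  have : Fintype b := FiniteDimensional.fintypeBasisIndex B
  let v := Fintype.linearCombination A m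
  have hv : ∀ i : b, v (Pi.single i 1) = m i := fun i => by simp [v]
  let Q := M ⧸ LinearMap.range v
  refine ⟨(Module.support A Q)ᶜ, Module.isClosed_support.isOpen_compl, ?_, ?_⟩
  · intro hx
    rw [Module.mem_support_iff_nontrivial_residueField_tensorProduct] at hx
    refine not_subsingleton (κ ⊗[A] Q) (subsingleton_iff_forall_eq 0 |>.2 fun z => ?_)
    obtain ⟨w, rfl⟩ := LinearMap.lTensor_surjective κ (Submodule.mkQ_surjective (LinearMap.range v)) z
    obtain ⟨c, rfl⟩ : ∃ c : b → κ, ∑ i, c i • B i = w :=
      ⟨fun i => B.repr w i, B.sum_repr w⟩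
    refine (lTensor_exact κ v.exact_map_mkQ_range (Submodule.mkQ_surjective _) _).2
      ⟨∑ i, c i ⊗ₜ[A] Pi.single i 1, ?_⟩
    simp only [map_sum, LinearMap.lTensor_tmul, hv, B, Basis.coe_mk, ← hm, smul_tmul', smul_eq_mul,
      mul_one]
  · intro y hy
    rw [Set.mem_compl_iff, Module.mem_support_iff_nontrivial_residueField_tensorProduct,
      not_nontrivial_iff_subsingleton] at hy
    let κ' := y.asIdeal.ResidueField
    have hs : Function.Surjective (v.baseChange κ') := fun z =>
      (lTensor_exact κ' v.exact_map_mkQ_range (Submodule.mkQ_surjective _) z).1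
        (Subsingleton.elim _ _)
    calc fibreDim M y ≤ finrank κ' (κ' ⊗[A] (b → A)) :=
          LinearMap.finrank_le_finrank_of_surjective hs
      _ = Fintype.card b := by
          rw [(TensorProduct.piScalarRight A κ' κ' b).finrank_eq, finrank_pi]
      _ = fibreDim M x := (finrank_eq_card_basis B).symm


theorem rangeDim_add {M N : Type v} [AddCommGroup M] [Module A M] [AddCommGroup N] [Module A N] [Module.Finite A N]
    (f : M →ₗ[A] N) (x : PrimeSpectrum A) :
    finrank x.asIdeal.ResidueField (LinearMap.range (f.baseChange x.asIdeal.ResidueField)) + fibreDim (N ⧸ LinearMap.range f) x =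
      fibreDim N x :=
  rank_baseChange_add f

theorem fibreDim_eventually_eq (N : Type v) [AddCommGroup N] [Module A N] [Module.FinitePresentation A N] [Module.Flat A N]
    (x : PrimeSpectrum A) : ∀ᶠ y in nhds x, fibreDim N y = fibreDim N x := by
  filter_upwards [(Module.isLocallyConstant_rankAtStalk (R := A) (M := N)).eventually_eq x] with y hy
  exact (Module.rankAtStalk_eq (M := N) y).symm.trans (hy.trans (Module.rankAtStalk_eq x))

end Groth.Agent.FibreDimUniv
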